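import Mathlib
import Cfsg.Prelude.Def_GeometricClasses
import Cfsg.Agent.Lib.Helper28.SpPair

set_option autoImplicit false

/-!
# Project SPU (leader: lead) -> S5665 (10u) : `N(K) ∩ Sp` is maximal in `Sp_2m(q)`, `m ≥ 7`, `q` odd,
`K = F[j]` a quadratic field subalgebra, adjoint-closed, not self-adjoint (`GU_m(q).2` in `Sp_2m(q)`).

Definitions only (no proofs).  Conventions of helper28's symplectic library (`srAct`, `SR`) and of S5646 / S5647 (`XX`, `tsGL`).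
-/

namespace Cfsg.Agent.Lib.Lead.SPU

open Matrix Cfsg.Agent.S5646 Cfsg.Agent.S5647 Cfsg.Agent.Lib.Helper28.SpPair

variable {m : ℕ} {F : Type*} [Field F]

/-- The data of the problem: `j` a matrix with `j² = c0` (`c0` a NON-square, so `K = F[j] = {a + b j}` is a field of degree 2),
skew-adjoint for the symplectic form `f = sympForm m F` (the adjoint map of `K` is its automorphism of order 2), `2 ≠ 0`. -/
structure JS (j : Matrix (Fin m ⊕ Fin m) (Fin m ⊕ Fin m) F) (c0 : F) : Prop where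
  two : (2 : F) ≠ 0
  sq : j * j = c0 • (1 : Matrix (Fin m ⊕ Fin m) (Fin m ⊕ Fin m) F)
  nsq : ∀ x : F, x * x ≠ c0
  adj : ∀ u v : Fin m ⊕ Fin m → F,
    Cfsg.sympForm m F (j *ᵥ u) v = - Cfsg.sympForm m F u (j *ᵥ v)

/-- `Q x = f (x, j x)` : the quadratic form (trace form of the hermitian form `h = B + j f`, `B (x, y) = f (x, j y)` symmetric). -/
def Qj (j : Matrix (Fin m ⊕ Fin m) (Fin m ⊕ Fin m) F) (x : Fin m ⊕ Fin m → F) : F :=
  Cfsg.sympForm m F x (j *ᵥ x)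

/-- `x ⊥_h y` ("hermitian-orthogonal", `h (x, y) = 0`): `f (x, y) = 0` and `B (x, y) = f (x, j y) = 0`. Symmetric. -/
def HOj (j : Matrix (Fin m ⊕ Fin m) (Fin m ⊕ Fin m) F) (x y : Fin m ⊕ Fin m → F) : Prop :=
  Cfsg.sympForm m F x y = 0 ∧ Cfsg.sympForm m F x (j *ᵥ y) = 0

/-- The `K`-line `K u = ⟨u, j u⟩`. -/
def Klj (j : Matrix (Fin m ⊕ Fin m) (Fin m ⊕ Fin m) F) (u : Fin m ⊕ Fin m → F) :
    Submodule F (Fin m ⊕ Fin m → F) :=
  Submodule.span F {u, j *ᵥ u}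

/-- `g ∈ C_Sp(j)` : `g` is symplectic and commutes with `j` (`= GU (V, h)`). -/
def InC (j : Matrix (Fin m ⊕ Fin m) (Fin m ⊕ Fin m) F)
    (g : Matrix.GeneralLinearGroup (Fin m ⊕ Fin m) F) : Prop :=
  g ∈ Cfsg.spGL m F ∧
    (g : Matrix (Fin m ⊕ Fin m) (Fin m ⊕ Fin m) F) * j = j * (g : Matrix (Fin m ⊕ Fin m) (Fin m ⊕ Fin m) F)

/-- The unitary transvection `τ_{v,a} = t_v(a) t_{jv}(-a/c0)` (`Q v = 0`): `x ↦ x + a f(x,v) v - (a/c0) f(x,jv) jv`. -/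
def tauAct (j : Matrix (Fin m ⊕ Fin m) (Fin m ⊕ Fin m) F) (c0 a : F)
    (v x : Fin m ⊕ Fin m → F) : Fin m ⊕ Fin m → F :=
  x + a • (Cfsg.sympForm m F x v • v) - (a / c0) • (Cfsg.sympForm m F x (j *ᵥ v) • (j *ᵥ v))

/-- The unitary reflection `R_d` (`Q d ≠ 0`): `x ↦ x - (2 / Q d) (f(d,jx) d + f(d,x) jd)`; `-1` on `K d`, `1` on `(K d)^⊥`. -/
def reflAct (j : Matrix (Fin m ⊕ Fin m) (Fin m ⊕ Fin m) F)
    (d x : Fin m ⊕ Fin m → F) : Fin m ⊕ Fin m → F :=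
  x - (2 / Qj j d) • (Cfsg.sympForm m F d (j *ᵥ x) • d + Cfsg.sympForm m F d x • (j *ᵥ d))

end Cfsg.Agent.Lib.Lead.SPU
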